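import Mathlib

/-! Derivations of a commutative Hopf algebra and linear forms on the cotangent space at the identity. -/

set_option autoImplicit false
universe u v w

open TensorProduct

noncomputable section

namespace Groth.Agent.HopfDeriv

variable {R : Type u} {A : Type v} {M : Type w} [CommRing R] [CommRing A] [HopfAlgebra R A] [AddCommGroup M]
  [Module R M] [Module A M] [IsScalarTower R A M]

variable (R A M) in
/-- `a ⊗ m ↦ a • m`. -/
def act : A ⊗[R] M →ₗ[R] M := ((LinearMap.id (R := R) (M := M)).liftBaseChange A).restrictScalars R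

@[simp] theorem act_tmul (a : A) (m : M) : act R A M (a ⊗ₜ[R] m) = a • m := by simp [act]

/-- `a ↦ Σ p(a₁) • g(a₂)`. -/
def twist (p : A →ₗ[R] A) (g : A →ₗ[R] M) : A →ₗ[R] M :=
  act R A M ∘ₗ g.lTensor A ∘ₗ p.rTensor A ∘ₗ Coalgebra.comul (R := R)

theorem twist_id (g : A →ₗ[R] M) :
    twist LinearMap.id g = act R A M ∘ₗ g.lTensor A ∘ₗ Coalgebra.comul (R := R) := by
  rw [twist, LinearMap.rTensor_id, LinearMap.id_comp]

theorem twist_twist (p q : A →ₗ[R] A)
    (hpq : ∀ a, LinearMap.mul' R A (TensorProduct.map p q (Coalgebra.comul (R := R) a)) =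
      algebraMap R A (Coalgebra.counit (R := R) a)) (h : A →ₗ[R] M) :
    twist p (twist q h) = h := by
  refine LinearMap.ext fun a => ?_
  let F : A ⊗[R] (A ⊗[R] A) →ₗ[R] M := act R A M ∘ₗ
    (act R A M ∘ₗ h.lTensor A ∘ₗ q.rTensor A).lTensor A ∘ₗ p.rTensor (A ⊗[R] A)
  have e1 : twist p (twist q h) a = F ((Coalgebra.comul (R := R)).lTensor A (Coalgebra.comul (R := R) a)) := by
    simp only [twist, LinearMap.comp_apply, F]
    induction Coalgebra.comul (R := R) a with
    | zero => simp
    | add x y hx hy => simp only [map_add, hx, hy]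
    | tmul x y =>
      simp only [LinearMap.rTensor_tmul, LinearMap.lTensor_tmul, LinearMap.comp_apply, act_tmul]
  rw [e1, ← Coalgebra.coassoc_apply]
  have e2 : ∀ z : A ⊗[R] A, F (TensorProduct.assoc R A A A ((Coalgebra.comul (R := R)).rTensor A z)) =
      h (TensorProduct.lid R A ((Coalgebra.counit (R := R)).rTensor A z)) := by
    intro z
    induction z with
    | zero => simp
    | add x y hx hy => simp only [map_add, hx, hy]
    | tmul x y =>
      rw [LinearMap.rTensor_tmul, LinearMap.rTensor_tmul, TensorProduct.lid_tmul, map_smul,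
        ← algebraMap_smul A (Coalgebra.counit (R := R) x) (h y), ← hpq]
      generalize Coalgebra.comul (R := R) x = w
      induction w with
      | zero => simp
      | add r s hr hs => simp only [TensorProduct.add_tmul, map_add, add_smul, hr, hs]
      | tmul r s => simp [F, smul_smul]
  rw [e2, Coalgebra.rTensor_counit_comul, TensorProduct.lid_tmul, one_smul]

theorem mul_antipode_left (a : A) :
    LinearMap.mul' R A (TensorProduct.map (HopfAlgebra.antipode R) LinearMap.id (Coalgebra.comul (R := R) a)) =
      algebraMap R A (Coalgebra.counit (R := R) a) :=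
  HopfAlgebra.mul_antipode_rTensor_comul_apply a

theorem mul_antipode_right (a : A) :
    LinearMap.mul' R A (TensorProduct.map LinearMap.id (HopfAlgebra.antipode R) (Coalgebra.comul (R := R) a)) =
      algebraMap R A (Coalgebra.counit (R := R) a) :=
  HopfAlgebra.mul_antipode_lTensor_comul_apply a

theorem twist_id_leibniz (g : A →ₗ[R] M)
    (hg : ∀ x y, g (x * y) = Coalgebra.counit (R := R) x • g y + Coalgebra.counit (R := R) y • g x) (a b : A) :
    twist LinearMap.id g (a * b) = a • twist LinearMap.id g b + b • twist LinearMap.id g a := by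
  let G : A ⊗[R] A →ₗ[R] M := act R A M ∘ₗ g.lTensor A
  let E' : A ⊗[R] A →ₗ[R] A := (TensorProduct.rid R A).toLinearMap ∘ₗ (Coalgebra.counit (R := R)).lTensor A
  have hG : ∀ x y : A ⊗[R] A, G (x * y) = E' x • G y + E' y • G x := by
    intro x y
    induction x with
    | zero => simp
    | add p q hp hq => simp only [add_mul, map_add, hp, hq, add_smul, smul_add]; abel
    | tmul p q =>
      induction y with
      | zero => simp
      | add r s hr hs => simp only [mul_add, map_add, hr, hs, add_smul, smul_add]; abel
      | tmul r s =>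
        simp only [G, E', Algebra.TensorProduct.tmul_mul_tmul, LinearMap.comp_apply, LinearMap.lTensor_tmul,
          act_tmul, LinearEquiv.coe_coe, TensorProduct.rid_tmul, hg, smul_add]
        rw [← algebraMap_smul A (Coalgebra.counit (R := R) q) (g s),
          ← algebraMap_smul A (Coalgebra.counit (R := R) s) (g q), Algebra.smul_def, Algebra.smul_def,
          smul_smul, smul_smul, smul_smul, smul_smul]
        ring_nf
  have hE : ∀ c, E' (Coalgebra.comul (R := R) c) = c := fun c => by
    simp [E', Coalgebra.lTensor_counit_comul]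
  have e : ∀ c, twist LinearMap.id g c = G (Coalgebra.comul (R := R) c) := fun c => by rw [twist_id]; rfl
  rw [e, e, e, Bialgebra.comul_mul, hG, hE, hE]

theorem twist_antipode_mul (D : Derivation R A M) (x y : A) :
    twist (HopfAlgebra.antipode R) D.toLinearMap (x * y) =
      Coalgebra.counit (R := R) x • twist (HopfAlgebra.antipode R) D.toLinearMap y +
        Coalgebra.counit (R := R) y • twist (HopfAlgebra.antipode R) D.toLinearMap x := by
  let G : A ⊗[R] A →ₗ[R] M := act R A M ∘ₗ D.toLinearMap.lTensor A ∘ₗ (HopfAlgebra.antipode R).rTensor A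
  let E' : A ⊗[R] A →ₗ[R] A := LinearMap.mul' R A ∘ₗ (HopfAlgebra.antipode R).rTensor A
  have hG : ∀ x y : A ⊗[R] A, G (x * y) = E' x • G y + E' y • G x := by
    intro x y
    induction x with
    | zero => simp
    | add p q hp hq => simp only [add_mul, map_add, hp, hq, add_smul, smul_add]; abel
    | tmul p q =>
      induction y with
      | zero => simp
      | add r s hr hs => simp only [mul_add, map_add, hr, hs, add_smul, smul_add]; abel
      | tmul r s =>
        simp only [G, E', Algebra.TensorProduct.tmul_mul_tmul, LinearMap.comp_apply, LinearMap.rTensor_tmul,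
          LinearMap.lTensor_tmul, act_tmul, LinearMap.mul'_apply, Derivation.coeFn_coe, Derivation.leibniz, smul_add,
          smul_smul, ← HopfAlgebra.antipodeAlgHom_apply, map_mul]
        ring_nf
  have e : ∀ c, twist (HopfAlgebra.antipode R) D.toLinearMap c = G (Coalgebra.comul (R := R) c) := fun c => rfl
  have hE : ∀ c, E' (Coalgebra.comul (R := R) c) = algebraMap R A (Coalgebra.counit (R := R) c) :=
    fun c => HopfAlgebra.mul_antipode_rTensor_comul_apply c
  rw [e, e, e, Bialgebra.comul_mul, hG, hE, hE, algebraMap_smul, algebraMap_smul]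

section Cotangent

variable (R A) in
/-- The augmentation ideal. -/
abbrev augI : Ideal A := RingHom.ker (Bialgebra.counitAlgHom R A)

variable (π : A →ₗ[R] Ideal.Cotangent (augI R A)) (hπI : ∀ x : (augI R A), π (x : A) = Ideal.toCotangent (augI R A) x) (hπ1 : π 1 = 0)

include hπI hπ1

theorem surjective_proj : Function.Surjective π := fun c => by
  obtain ⟨x, rfl⟩ := Ideal.toCotangent_surjective (augI R A) c
  exact ⟨x, hπI x⟩

theorem proj_mul (x y : A) : π (x * y) = Coalgebra.counit (R := R) x • π y + Coalgebra.counit (R := R) y • π x := by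
  set a := Coalgebra.counit (R := R) x with ha
  set b := Coalgebra.counit (R := R) y with hb
  have hx : x - algebraMap R A a ∈ (augI R A) := by simp [RingHom.mem_ker, ha]
  have hy : y - algebraMap R A b ∈ (augI R A) := by simp [RingHom.mem_ker, hb]
  have h0 : π ((x - algebraMap R A a) * (y - algebraMap R A b)) = 0 := by
    refine (hπI ⟨_, Ideal.mul_mem_right _ _ hx⟩).trans ((Ideal.toCotangent_eq_zero (augI R A) _).mpr ?_)
    rw [sq]
    exact Ideal.mul_mem_mul hx hy
  have e : (x - algebraMap R A a) * (y - algebraMap R A b) = x * y - a • y - b • x + (a * b) • (1 : A) := by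
    simp only [Algebra.smul_def, map_mul]; ring
  rw [e, map_add, map_sub, map_sub, map_smul, map_smul, map_smul, hπ1, smul_zero, add_zero, sub_sub,
    sub_eq_zero] at h0
  exact h0

theorem leibniz (l : Ideal.Cotangent (augI R A) →ₗ[R] M) (a b : A) :
    twist LinearMap.id (l ∘ₗ π) (a * b) = a • twist LinearMap.id (l ∘ₗ π) b + b • twist LinearMap.id (l ∘ₗ π) a :=
  twist_id_leibniz _ (fun x y => by simp [proj_mul π hπI hπ1]) a b

theorem existsUnique (D : Derivation R A M) :
    ∃! l : Ideal.Cotangent (augI R A) →ₗ[R] M, twist LinearMap.id (l ∘ₗ π) = D.toLinearMap := by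
  let L := twist (HopfAlgebra.antipode R) D.toLinearMap
  have hL1 : L 1 = 0 := by
    simp [L, twist, Bialgebra.comul_one, Algebra.TensorProduct.one_def]
  have hker : LinearMap.ker π ≤ LinearMap.ker L := by
    intro x hx
    rw [LinearMap.mem_ker] at hx ⊢
    have hxI : x - algebraMap R A (Coalgebra.counit (R := R) x) ∈ (augI R A) := by simp [RingHom.mem_ker]
    have h2 : x - algebraMap R A (Coalgebra.counit (R := R) x) ∈ (augI R A) ^ 2 := by
      have h : π (x - algebraMap R A (Coalgebra.counit (R := R) x)) = 0 := by
        rw [map_sub, Algebra.algebraMap_eq_smul_one, map_smul, hπ1, hx, smul_zero, sub_zero]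
      exact (Ideal.toCotangent_eq_zero (augI R A) ⟨_, hxI⟩).mp ((hπI ⟨_, hxI⟩).symm.trans h)
    have h0 : ∀ z ∈ (augI R A) ^ 2, L z = 0 := by
      intro z hz
      rw [sq] at hz
      induction hz using Submodule.mul_induction_on' with
      | mem_mul_mem a ha b hb =>
        have ha' : Coalgebra.counit (R := R) a = 0 := ha
        have hb' : Coalgebra.counit (R := R) b = 0 := hb
        simp only [L, twist_antipode_mul, ha', hb', zero_smul, add_zero]
      | add a _ b _ ha hb => rw [map_add, ha, hb, add_zero]
    have := h0 _ h2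
    rwa [map_sub, Algebra.algebraMap_eq_smul_one, map_smul, hL1, smul_zero, sub_zero] at this
  let e := π.quotKerEquivOfSurjective (surjective_proj π hπI hπ1)
  let l : Ideal.Cotangent (augI R A) →ₗ[R] M := (Submodule.liftQ _ L hker) ∘ₗ e.symm.toLinearMap
  have hl : l ∘ₗ π = L := LinearMap.ext fun x => by
    have : e.symm (π x) = Submodule.Quotient.mk x := e.symm_apply_eq.mpr rfl
    simp [l, this]
  refine ⟨l, ?_, fun l' hl' => LinearMap.ext fun c => ?_⟩
  · show twist LinearMap.id (l ∘ₗ π) = _
    rw [hl]
    exact twist_twist _ _ mul_antipode_right _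
  · obtain ⟨x, rfl⟩ := surjective_proj π hπI hπ1 c
    have h : twist (HopfAlgebra.antipode R) (twist LinearMap.id (l' ∘ₗ π)) = l' ∘ₗ π :=
      twist_twist _ _ mul_antipode_left _
    rw [hl'] at h
    exact (LinearMap.congr_fun h x).symm.trans (LinearMap.congr_fun hl x).symm

end Cotangent

end Groth.Agent.HopfDeriv
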